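import Groth.Agent.Lib.LocalPts.Complete
import Groth.Agent.Lib.AdicExtra.FiniteAlg
import Mathlib.AlgebraicGeometry.Limits

/-!
Points of a scheme in a finite algebra over a complete Noetherian local ring.
-/

universe u

open CategoryTheory AlgebraicGeometry IsLocalRing Limits

namespace GrothLib.LocalPts

/-- A quotient of a finite product decomposes. -/
theorem bijective_quot_pi {B : Type u} [CommRing B] {σ : Type u} [Finite σ] (C : σ → Type u) [∀ i, CommRing (C i)]
    (π : ∀ i, B →+* C i) (hπ : Function.Bijective (RingHom.pi π)) (I : Ideal B) :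
    Function.Bijective (RingHom.pi fun i => Ideal.quotientMap (I.map (π i)) (π i) Ideal.le_comap_map :
      B ⧸ I →+* ∀ i, C i ⧸ I.map (π i)) := by
  classical
  haveI := Fintype.ofFinite σ
  have hs : ∀ i, Function.Surjective (π i) := fun i y => by
    obtain ⟨x, hx⟩ := hπ.2 (Pi.single i y)
    exact ⟨x, by simpa using congrFun hx i⟩
  constructor
  · rw [injective_iff_map_eq_zero]
    intro z hz
    obtain ⟨x, rfl⟩ := Ideal.Quotient.mk_surjective z
    choose e he using fun i => hπ.2 (Pi.single i 1)
    have hmem : ∀ i, x * e i ∈ I := fun i => by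
      have h1 := congrFun hz i
      simp only [RingHom.pi_apply, Ideal.quotientMap_mk, Pi.zero_apply, Ideal.Quotient.eq_zero_iff_mem,
        Ideal.mem_map_iff_of_surjective _ (hs i)] at h1
      obtain ⟨r, hr, hrx⟩ := h1
      have : x * e i = r * e i := by
        refine hπ.1 (funext fun j => ?_)
        simp only [map_mul, Pi.mul_apply]
        rw [he]
        rcases eq_or_ne j i with rfl | hj
        · simp [hrx]
        · simp [hj]
      rw [this]
      exact I.mul_mem_right _ hr
    have hx : x = ∑ i, x * e i := by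
      refine hπ.1 (funext fun j => ?_)
      simp only [map_sum, map_mul, Finset.sum_apply, Pi.mul_apply, he]
      rw [Finset.sum_eq_single j] <;> simp_all
    rw [Ideal.Quotient.eq_zero_iff_mem, hx]
    exact sum_mem fun i _ => hmem i
  · intro y
    choose c hc using fun i => Ideal.Quotient.mk_surjective (y i)
    obtain ⟨x, hx⟩ := hπ.2 c
    refine ⟨Ideal.Quotient.mk I x, funext fun i => ?_⟩
    rw [RingHom.pi_apply, Ideal.quotientMap_mk, show π i x = c i from congrFun hx i, hc]

variable {A : Type u} [CommRing A] [IsLocalRing A] [IsNoetherianRing A] [IsAdicComplete (maximalIdeal A) A]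
variable {B : Type u} [CommRing B] [Algebra A B] [Module.Finite A B] {X : Scheme.{u}}

variable (A B) in
/-- The local factors. -/
abbrev Fac (m : MaximalSpectrum B) : Type u := Localization.AtPrime m.asIdeal

theorem isIso_specMap_pi {σ : Type u} [Finite σ] (C : σ → Type u) [∀ i, CommRing (C i)] {D : Type u} [CommRing D]
    (π : ∀ i, D →+* C i) (hπ : Function.Bijective (RingHom.pi π)) :
    IsIso (Spec.map (CommRingCat.ofHom (RingHom.pi π))) := by
  haveI : IsIso (CommRingCat.ofHom (RingHom.pi π)) := (RingEquiv.ofBijective _ hπ).toCommRingCatIso.isIso_hom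
  infer_instance

/-- Morphisms out of a finite product are determined on the factors. -/
theorem hom_ext_pi {σ : Type u} [Finite σ] (C : σ → Type u) [∀ i, CommRing (C i)] {D : Type u} [CommRing D]
    (π : ∀ i, D →+* C i) (hπ : Function.Bijective (RingHom.pi π)) {f g : Spec (CommRingCat.of D) ⟶ X}
    (h : ∀ i, Spec.map (CommRingCat.ofHom (π i)) ≫ f = Spec.map (CommRingCat.ofHom (π i)) ≫ g) : f = g := by
  haveI := isIso_specMap_pi C π hπ
  rw [← cancel_epi (Spec.map (CommRingCat.ofHom (RingHom.pi π))),
    ← cancel_epi (sigmaSpec fun i => CommRingCat.of (C i))]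
  refine Sigma.hom_ext _ _ fun i => ?_
  rw [ι_sigmaSpec_assoc, ι_sigmaSpec_assoc, ← Category.assoc, ← Category.assoc, ← Spec.map_comp,
    ← CommRingCat.ofHom_comp]
  exact h i

variable (A) in
theorem exists_pow_le (m : MaximalSpectrum B) :
    (maximalIdeal A).map (algebraMap A (Fac B m)) ≤ maximalIdeal (Fac B m) ∧
      ∃ d, maximalIdeal (Fac B m) ^ d ≤ (maximalIdeal A).map (algebraMap A (Fac B m)) := by
  obtain ⟨-, hbij, hm⟩ := GrothLib.AdicExtra.finite_algebra_pi_localizations A B
  haveI := (hm m).1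
  classical
  have hsurj : Function.Surjective (algebraMap B (Fac B m)) := fun y => by
    obtain ⟨x, hx⟩ := hbij.2 (Pi.single m y)
    exact ⟨x, by simpa using congrFun hx m⟩
  haveI : Module.Finite A (Fac B m) := Module.Finite.of_surjective (IsScalarTower.toAlgHom A B _).toLinearMap hsurj
  haveI : Algebra.IsIntegral A (Fac B m) := Algebra.IsIntegral.of_finite A _
  have hmax : (maximalIdeal (Fac B m)).comap (algebraMap A (Fac B m)) = maximalIdeal A := by
    have := Ideal.isMaximal_comap_of_isIntegral_of_isMaximal (R := A) (maximalIdeal (Fac B m))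
    exact IsLocalRing.eq_maximalIdeal this
  refine ⟨Ideal.map_le_iff_le_comap.mpr hmax.ge, Ideal.exists_pow_le_of_le_radical_of_fg ?_ (IsNoetherian.noetherian _)⟩
  rw [Ideal.radical_eq_sInf]
  refine le_sInf fun P hP => ?_
  have := hP.2
  have hcomap : P.comap (algebraMap A (Fac B m)) = maximalIdeal A :=
    ((maximalIdeal.isMaximal A).eq_of_le (Ideal.IsPrime.ne_top inferInstance) (Ideal.map_le_iff_le_comap.1 hP.1)).symm
  have : P.IsMaximal := Ideal.isMaximal_of_isIntegral_of_isMaximal_comap (R := A) P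
    (hcomap ▸ maximalIdeal.isMaximal A)
  exact (IsLocalRing.eq_maximalIdeal this).ge

/-- The reduction ideal. -/
abbrev red (A B : Type u) [CommRing A] [IsLocalRing A] [CommRing B] [Algebra A B] (n : ℕ) : Ideal B :=
  (maximalIdeal A ^ n).map (algebraMap A B)

variable (A) in
theorem red_le (m : MaximalSpectrum B) (n : ℕ) :
    red A B n ≤ (maximalIdeal (Fac B m) ^ n).comap (algebraMap B (Fac B m)) := by
  rw [red, Ideal.map_le_iff_le_comap, Ideal.comap_comap, ← IsScalarTower.algebraMap_eq, ← Ideal.map_le_iff_le_comap,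
    Ideal.map_pow]
  exact Ideal.pow_right_mono (exists_pow_le A m).1 n

variable (A) in
theorem hom_ext_finite (f g : Spec (CommRingCat.of B) ⟶ X)
    (h : ∀ n : ℕ, Spec.map (CommRingCat.ofHom (Ideal.Quotient.mk (red A B n))) ≫ f =
      Spec.map (CommRingCat.ofHom (Ideal.Quotient.mk (red A B n))) ≫ g) : f = g := by
  obtain ⟨_, hbij, hm⟩ := GrothLib.AdicExtra.finite_algebra_pi_localizations A B
  refine hom_ext_pi (fun m : MaximalSpectrum B => Fac B m) (fun m => algebraMap B (Fac B m)) hbij fun m => ?_
  haveI := (hm m).2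
  refine hom_ext_of_forall_quot _ _ fun n => ?_
  have h1 := congrArg (Spec.map (CommRingCat.ofHom (Ideal.quotientMap _ (algebraMap B (Fac B m)) (red_le A m n))) ≫ ·) (h n)
  simp only [← Category.assoc, ← Spec.map_comp, ← CommRingCat.ofHom_comp, Ideal.quotientMap_comp_mk] at h1 ⊢
  exact h1

variable (A) in
theorem exists_hom_finite (u : (n : ℕ) → (Spec (CommRingCat.of (B ⧸ red A B n)) ⟶ X))
    (hu : ∀ n : ℕ, Spec.map (CommRingCat.ofHom (Ideal.Quotient.factor
      (Ideal.map_mono (Ideal.pow_le_pow_right (I := maximalIdeal A) (Nat.le_succ n))))) ≫ u (n + 1) = u n) :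
    ∃ f : Spec (CommRingCat.of B) ⟶ X,
      ∀ n : ℕ, Spec.map (CommRingCat.ofHom (Ideal.Quotient.mk (red A B n))) ≫ f = u n := by
  obtain ⟨_, hbij, hm⟩ := GrothLib.AdicExtra.finite_algebra_pi_localizations A B
  have hT : ∀ a b : ℕ, ∀ hab : a ≤ b, Spec.map (CommRingCat.ofHom (Ideal.Quotient.factor
      (Ideal.map_mono (f := algebraMap A B) (Ideal.pow_le_pow_right (I := maximalIdeal A) hab)))) ≫ u b = u a := by
    intro a b hab
    induction hab with
    | refl => simp
    | step hab ih =>
      rw [← ih]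
      conv_rhs => rw [← hu]
      rw [← Category.assoc, ← Spec.map_comp, ← CommRingCat.ofHom_comp, Ideal.Quotient.factor_comp]
  have hloc : ∀ m : MaximalSpectrum B, ∃ g : Spec (CommRingCat.of (Fac B m)) ⟶ X, ∀ n : ℕ,
      Spec.map (CommRingCat.ofHom (Ideal.Quotient.mk (maximalIdeal (Fac B m) ^ n))) ≫ g =
        Spec.map (CommRingCat.ofHom (Ideal.quotientMap _ (algebraMap B (Fac B m)) (red_le A m n))) ≫ u n := fun m => by
    haveI := (hm m).2
    refine exists_hom_of_compatible _ fun n => ?_
    rw [← hT n (n + 1) n.le_succ, ← Category.assoc, ← Category.assoc, ← Spec.map_comp, ← Spec.map_comp,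
      ← CommRingCat.ofHom_comp, ← CommRingCat.ofHom_comp]
    congr 3
    exact Ideal.Quotient.ringHom_ext (RingHom.ext fun _ => rfl)
  choose g hg using hloc
  haveI := isIso_specMap_pi (fun m : MaximalSpectrum B => Fac B m) (fun m => algebraMap B (Fac B m)) hbij
  let F : Spec (CommRingCat.of B) ⟶ X :=
    inv (sigmaSpec (fun m : MaximalSpectrum B => CommRingCat.of (Fac B m)) ≫
      Spec.map (CommRingCat.ofHom (RingHom.pi fun m : MaximalSpectrum B => algebraMap B (Fac B m)))) ≫ Sigma.desc g
  have hF : ∀ m, Spec.map (CommRingCat.ofHom (algebraMap B (Fac B m))) ≫ F = g m := fun m => by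
    have e : Sigma.ι (fun m : MaximalSpectrum B => Spec (CommRingCat.of (Fac B m))) m ≫
        (sigmaSpec (fun m : MaximalSpectrum B => CommRingCat.of (Fac B m)) ≫
          Spec.map (CommRingCat.ofHom (RingHom.pi fun m : MaximalSpectrum B => algebraMap B (Fac B m)))) =
        Spec.map (CommRingCat.ofHom (algebraMap B (Fac B m))) := by
      rw [ι_sigmaSpec_assoc, ← Spec.map_comp, ← CommRingCat.ofHom_comp]
      rfl
    rw [← e, Category.assoc, IsIso.hom_inv_id_assoc, Sigma.ι_desc]
  refine ⟨F, fun n => hom_ext_pi _ _ (bijective_quot_pi (fun m : MaximalSpectrum B => Fac B m)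
    (fun m => algebraMap B (Fac B m)) hbij (red A B n)) fun m => ?_⟩
  obtain ⟨-, d, hd⟩ := exists_pow_le A m
  have hle : maximalIdeal (Fac B m) ^ (d * n + n) ≤ (red A B n).map (algebraMap B (Fac B m)) := by
    rw [red, Ideal.map_map, ← IsScalarTower.algebraMap_eq, Ideal.map_pow]
    exact (Ideal.pow_le_pow_right (Nat.le_add_right _ _)).trans ((pow_mul _ d n).trans_le (Ideal.pow_right_mono hd n))
  let fa := Ideal.Quotient.factor hle
  rw [← Category.assoc, ← Spec.map_comp, ← CommRingCat.ofHom_comp, Ideal.quotientMap_comp_mk,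
    CommRingCat.ofHom_comp, Spec.map_comp, Category.assoc, hF,
    ← Ideal.Quotient.factor_comp_mk hle, CommRingCat.ofHom_comp, Spec.map_comp, Category.assoc, hg,
    ← hT n (d * n + n) (Nat.le_add_left _ _), ← Category.assoc, ← Category.assoc, ← Spec.map_comp, ← Spec.map_comp,
    ← CommRingCat.ofHom_comp, ← CommRingCat.ofHom_comp]
  congr 3
  exact Ideal.Quotient.ringHom_ext (RingHom.ext fun _ => rfl)

end GrothLib.LocalPts
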