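import Mathlib.AlgebraicGeometry.AffineScheme
import Mathlib.AlgebraicGeometry.OpenImmersion
import Mathlib.RingTheory.AdicCompletion.RingHom
import Mathlib.RingTheory.Spectrum.Prime.Topology

/-!
Points of a scheme in a complete local ring.
-/

universe u

open CategoryTheory AlgebraicGeometry IsLocalRing

namespace GrothLib.LocalPts

variable {A : Type u} [CommRing A] [IsLocalRing A] {X : Scheme.{u}}

/-- A morphism from the spectrum of a local ring factors through an affine open around the closed point. -/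
theorem exists_eq_comp_fromSpec {B : Type u} [CommRing B] [IsLocalRing B] {U : X.Opens} (hU : IsAffineOpen U)
    (f : Spec (CommRingCat.of B) ⟶ X) (hf : f.base (closedPoint B) ∈ U) :
    ∃ φ : Γ(X, U) ⟶ CommRingCat.of B, Spec.map φ ≫ hU.fromSpec = f := by
  have hr : Set.range f.base ⊆ Set.range hU.fromSpec.base := by
    rw [hU.range_fromSpec]
    rintro _ ⟨p, rfl⟩
    exact ((specializes_closedPoint p).map f.base.hom.continuous).mem_open U.2 hf
  exact ⟨Spec.preimage (IsOpenImmersion.lift hU.fromSpec f hr), by rw [Spec.map_preimage, IsOpenImmersion.lift_fac]⟩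

theorem factor_comp_mk {I J : Ideal A} (h : I ≤ J) :
    Spec.map (CommRingCat.ofHom (Ideal.Quotient.factor h)) ≫ Spec.map (CommRingCat.ofHom (Ideal.Quotient.mk I)) =
      Spec.map (CommRingCat.ofHom (Ideal.Quotient.mk J)) := by
  rw [← Spec.map_comp, ← CommRingCat.ofHom_comp, Ideal.Quotient.factor_comp_mk]

theorem isLocalRing_quot (n : ℕ) : IsLocalRing (A ⧸ maximalIdeal A ^ (n + 1)) := by
  haveI : Nontrivial (A ⧸ maximalIdeal A ^ (n + 1)) := Ideal.Quotient.nontrivial_iff.mpr fun h =>
    (maximalIdeal.isMaximal A).ne_top (top_le_iff.mp (h ▸ Ideal.pow_le_self n.succ_ne_zero))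
  exact IsLocalRing.of_surjective' _ Ideal.Quotient.mk_surjective

theorem subsingleton_spec_quot (n : ℕ) : Subsingleton (PrimeSpectrum (A ⧸ maximalIdeal A ^ n)) := by
  refine ⟨fun p q => (PrimeSpectrum.comap_injective_of_surjective _ Ideal.Quotient.mk_surjective) ?_⟩
  have key : ∀ p : PrimeSpectrum (A ⧸ maximalIdeal A ^ n),
      (PrimeSpectrum.comap (Ideal.Quotient.mk (maximalIdeal A ^ n)) p).asIdeal = maximalIdeal A := by
    intro p
    have hle : maximalIdeal A ^ n ≤ (PrimeSpectrum.comap (Ideal.Quotient.mk (maximalIdeal A ^ n)) p).asIdeal := by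
      intro x hx
      change Ideal.Quotient.mk _ x ∈ p.asIdeal
      rw [Ideal.Quotient.eq_zero_iff_mem.mpr hx]
      exact zero_mem _
    exact ((maximalIdeal.isMaximal A).eq_of_le (PrimeSpectrum.isPrime _).ne_top
      (Ideal.IsPrime.le_of_pow_le hle)).symm
  exact PrimeSpectrum.ext ((key p).trans (key q).symm)

variable [IsAdicComplete (maximalIdeal A) A]

theorem hom_ext_of_forall_quot (f g : Spec (CommRingCat.of A) ⟶ X)
    (h : ∀ n : ℕ, Spec.map (CommRingCat.ofHom (Ideal.Quotient.mk (maximalIdeal A ^ n))) ≫ f =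
      Spec.map (CommRingCat.ofHom (Ideal.Quotient.mk (maximalIdeal A ^ n))) ≫ g) : f = g := by
  haveI := isLocalRing_quot (A := A) 0
  haveI : IsLocalRing (A ⧸ maximalIdeal A ^ 1) := isLocalRing_quot (A := A) 0
  haveI : IsLocalHom (Ideal.Quotient.mk (maximalIdeal A ^ 1)) :=
    IsLocalHom.of_surjective _ Ideal.Quotient.mk_surjective
  have hx : f.base (closedPoint A) = g.base (closedPoint A) := by
    have h1 := congrArg (fun k : _ ⟶ X => k.base (closedPoint _)) (h 1)
    simp only [Scheme.Hom.comp_base, TopCat.comp_app] at h1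
    rwa [show (Spec.map (CommRingCat.ofHom (Ideal.Quotient.mk (maximalIdeal A ^ 1)))).base
      (closedPoint _) = closedPoint A from IsLocalRing.comap_closedPoint (S := A ⧸ maximalIdeal A ^ 1) (Ideal.Quotient.mk (maximalIdeal A ^ 1))] at h1
  obtain ⟨_, ⟨U, hU, rfl⟩, hxU, -⟩ := X.isBasis_affineOpens.exists_subset_of_mem_open
    (Set.mem_univ (f.base (closedPoint A))) isOpen_univ
  obtain ⟨φ, rfl⟩ := exists_eq_comp_fromSpec hU f hxU
  obtain ⟨ψ, hψ⟩ := exists_eq_comp_fromSpec hU g (hx ▸ hxU)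
  subst hψ
  congr 2
  refine CommRingCat.hom_ext (DFunLike.coe_injective (IsHausdorff.funext' (maximalIdeal A) fun n s => ?_))
  have h1 := h n
  rw [← Category.assoc, ← Category.assoc, cancel_mono hU.fromSpec, ← Spec.map_comp, ← Spec.map_comp] at h1
  exact congrArg (fun k => k.hom s) (Spec.map_injective h1)

theorem exists_hom_of_compatible
    (u : (n : ℕ) → (Spec (CommRingCat.of (A ⧸ maximalIdeal A ^ n)) ⟶ X))
    (hu : ∀ n : ℕ, Spec.map (CommRingCat.ofHom (Ideal.Quotient.factor
      (Ideal.pow_le_pow_right (I := maximalIdeal A) (Nat.le_succ n)))) ≫ u (n + 1) = u n) :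
    ∃ f : Spec (CommRingCat.of A) ⟶ X,
      ∀ n : ℕ, Spec.map (CommRingCat.ofHom (Ideal.Quotient.mk (maximalIdeal A ^ n))) ≫ f = u n := by
  have hT : ∀ m n : ℕ, ∀ hmn : m ≤ n, Spec.map (CommRingCat.ofHom (Ideal.Quotient.factor
      (Ideal.pow_le_pow_right (I := maximalIdeal A) hmn))) ≫ u n = u m := by
    intro m n hmn
    induction hmn with
    | refl => simp
    | step hmn ih =>
      rw [← ih]
      conv_rhs => rw [← hu]
      rw [← Category.assoc, ← Spec.map_comp, ← CommRingCat.ofHom_comp, Ideal.Quotient.factor_comp]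
  haveI := isLocalRing_quot (A := A) 0
  obtain ⟨_, ⟨U, hU, rfl⟩, hxU, -⟩ := X.isBasis_affineOpens.exists_subset_of_mem_open
    (Set.mem_univ ((u 1).base (closedPoint _))) isOpen_univ
  have hmem : ∀ n (p : Spec (CommRingCat.of (A ⧸ maximalIdeal A ^ n))), (u n).base p ∈ U := by
    intro n p
    rcases n with _ | n
    · haveI : Subsingleton (A ⧸ maximalIdeal A ^ 0) := Ideal.Quotient.subsingleton_iff.mpr (by simp)
      haveI : IsEmpty (PrimeSpectrum (A ⧸ maximalIdeal A ^ 0)) := inferInstance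
      exact (this.false p).elim
    · haveI := subsingleton_spec_quot (A := A) (n + 1)
      have h1 := hT 1 (n + 1) (Nat.le_add_left 1 n)
      rw [← h1, Scheme.Hom.comp_base, TopCat.comp_app] at hxU
      exact Subsingleton.elim (α := PrimeSpectrum (A ⧸ maximalIdeal A ^ (n + 1))) _ p ▸ hxU
  have hr : ∀ n, Set.range (u n).base ⊆ Set.range hU.fromSpec.base := fun n => by
    rw [hU.range_fromSpec]
    rintro _ ⟨p, rfl⟩
    exact hmem n p
  let φ : ∀ n, Γ(X, U) ⟶ CommRingCat.of (A ⧸ maximalIdeal A ^ n) := fun n =>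
    Spec.preimage (IsOpenImmersion.lift hU.fromSpec (u n) (hr n))
  have hφ : ∀ n, Spec.map (φ n) ≫ hU.fromSpec = u n := fun n => by
    simp only [φ, Spec.map_preimage, IsOpenImmersion.lift_fac]
  let F : Γ(X, U) →+* A := IsAdicComplete.liftRingHom (maximalIdeal A) (fun n => (φ n).hom) fun {m n} hmn => by
    have h1 := hT m n hmn
    rw [← hφ, ← hφ, ← Category.assoc, cancel_mono hU.fromSpec, ← Spec.map_comp] at h1
    exact congrArg CommRingCat.Hom.hom (Spec.map_injective h1)
  refine ⟨Spec.map (CommRingCat.ofHom F) ≫ hU.fromSpec, fun n => ?_⟩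
  rw [← Category.assoc, ← Spec.map_comp, ← CommRingCat.ofHom_comp, IsAdicComplete.mk_comp_liftRingHom, ← hφ n]
  rfl

end GrothLib.LocalPts
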